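import Cfsg.Agent.GZ.G5
import Cfsg.Agent.H8.Clos1
import Cfsg.Agent.H2.Nil1
import Cfsg.Agent.WA.IR2

/-! The case `p = 2` and the conclusion. -/

set_option autoImplicit false
set_option linter.unusedSectionVars false

namespace Cfsg.Agent.GZ

open Subgroup Cfsg.Agent.FT Cfsg.Agent.L0 Cfsg.Agent.H8 Cfsg.Agent.BS Cfsg.Agent.H8.Clos Cfsg.Agent.H8.Dich

variable {G : Type*} [Group G] [Finite G] {P : Subgroup G}

theorem aut_eq_one [IsSimpleGroup G] (X : Suz G) (ρ : MulAut G) (ho : Odd (orderOf ρ))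
    (h : ∀ x ∈ X.Q, ρ x = x) : ρ = 1 := by
  have hρH : ∀ g ∈ X.H, ρ g ∈ X.H := fun g hg => by
    refine X.mem_H_of_conj X.sQ X.s1 ?_
    rw [← h _ X.sQ, ← map_inv, ← map_mul, ← map_mul, h _ (X.conj_mem_Q hg X.sQ)]
    exact X.Q_le (X.conj_mem_Q hg X.sQ)
  have ht : ρ X.t ∉ X.H := fun e => X.tH (X.mem_H_of_conj X.sQ X.s1 (by
    have e1 := X.conj_mem_Q e X.sQ
    have e2 : ρ (X.t * X.s * X.t⁻¹) = ρ (ρ X.t * X.s * (ρ X.t)⁻¹) := by
      rw [h _ e1, map_mul, map_mul, map_inv, h _ X.sQ]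
    rw [ρ.injective e2]; exact X.Q_le e1))
  obtain ⟨a, ha, x, hx, e⟩ := X.hyp.two _ ht
  have hn : ∀ n : ℕ, ∃ b ∈ X.H, (ρ ^ n) X.t = b * X.t * x ^ n := by
    intro n
    induction n with
    | zero => exact ⟨1, one_mem _, by simp⟩
    | succ n ih =>
      obtain ⟨b, hb, e'⟩ := ih
      refine ⟨ρ b * a, mul_mem (hρH b hb) ha, ?_⟩
      rw [pow_succ', MulAut.mul_apply, e', map_mul, map_mul, e, h _ (pow_mem hx n), pow_succ']
      group
  obtain ⟨b, hb, e'⟩ := hn (orderOf ρ)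
  rw [pow_orderOf_eq_one, MulAut.one_apply] at e'
  have e1 := (X.canon_unique (one_mem _) hb (one_mem _) (pow_mem hx (orderOf ρ)) (by rw [← e']; simp)).2
  have x1 : x = 1 := eq_one_of_pw (pw_of_mem X.struct.two hx)
    (ho.of_dvd_nat (orderOf_dvd_of_pow_eq_one e1.symm)).not_two_dvd_nat
  rw [x1, mul_one] at e
  have key : ∀ g, ρ g * g⁻¹ ∈ X.H := fun g => by
    by_cases hg : g ∈ X.H
    · exact mul_mem (hρH g hg) (inv_mem hg)
    · obtain ⟨c, hc, y, hy, rfl⟩ := X.hyp.two _ hg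
      rw [map_mul, map_mul, e, h _ hy]
      have : ρ c * (a * X.t) * y * (c * X.t * y)⁻¹ = ρ c * a * c⁻¹ := by group
      rw [this]
      exact mul_mem (mul_mem (hρH c hc) ha) (inv_mem hc)
  ext g
  have : ρ g * g⁻¹ ∈ X.H.normalCore := fun b => by
    have e1 : b * (ρ g * g⁻¹) * b⁻¹ = (ρ b * b⁻¹)⁻¹ * (ρ (b * g) * (b * g)⁻¹) := by
      rw [map_mul]; group
    rw [e1]
    exact mul_mem (inv_mem (key b)) (key _)
  rw [X.core_eq_bot, mem_bot, mul_inv_eq_one] at this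
  exact this

theorem Hy.two_simple [IsSimpleGroup G] (h : Hy 2 P) (hn : ¬ P.Normal) :
    (∀ a b : G, Invo a → Invo b → ∃ g : G, g * a * g⁻¹ = b) ∧ ((∀ x ∈ P, x * x = 1) ∨
      (Lie.IsoSuzuki G ∧ ∀ ρ : MulAut G, Odd (orderOf ρ) → (∀ x ∈ P, ρ x = x) → ρ = 1)) := by
  have hG : ¬ IsMulCommutative G := fun c => hn ⟨fun n hn g => by rwa [mul_comm' g, mul_inv_cancel_right]⟩
  have h1 : P ≠ ⊥ := fun e => hn (by rw [e]; infer_instance)
  have hZ := Zp_ne_bot h.syl.pgroup h1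
  have hs : ∀ t : G, orderOf t = 2 → Group.IsSolvable 𝐂[t] := fun t ht => H2.CI.solv_of_nil (h.nil t ht)
  have hA2 : ∀ a ∈ Zp 2 P, a * a = 1 := fun a ha => by rw [← pow_two, ha.2]
  have hAZ : P ≤ 𝐂(Zp 2 P) := le_centralizer_comm.mp (Zp_le.trans inf_le_right)
  have hAS : Zp 2 P ≤ P := Zp_le.trans inf_le_left
  obtain ⟨k1, k2, k3, k4, -⟩ := closed_struct (fun G _ _ _ hG S => WA.rank2 hG S) hG
    (fun t ht => hs t ht.orderOf_eq) h.syl hAS hZ hA2 hAZ fun a ha g hg => h.Zp_sc ha hg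
  refine ⟨k2, ?_⟩
  have se : #|P| = 4 ∨ ∃ M : Subgroup G, IsStronglyEmbedded M := by
    by_cases h3 : PRankLE 2 2 G
    · exact WA.rank2 hG h.syl.toSylowTop (fun t ht htt s hs => (hAZ hs t (k1 t ht htt)).symm) h3
    · exact Or.inr ⟨_, H2.SC.se_of_closed bs0 hG h3 (fun t ht => isPConstrained_of_solvable (hs t ht))
        h.syl hAS hZ hAZ fun a ha g hg => h.Zp_sc ha hg⟩
  rcases se with h4 | ⟨M, hM⟩
  · exact Or.inl fun x hx => hA2 x ((eq_of_le_of_card_ge hAS (h4 ▸ k3)).ge hx)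
  obtain ⟨a, -, b, -, ha, hb, hne, hc⟩ := exists_four_mem hG h.syl h1
  obtain ⟨X, -, -⟩ := bender_suz hM (Four.not_pRankLE ⟨a, trivial, b, trivial, ha, hb, hne, hc⟩)
    (BS.pPrimeCore_eq_bot_of_simple ha)
  obtain ⟨g, -, rfl⟩ := (suz_sylow X).exists_cj_eq h.syl
  have h5 := X.rk1 X.core_eq_bot
  have h4 := X.four_le_q
  have hS := X.struct
  have e : Rec.gen X.Q X.t ≃* G := (MulEquiv.subgroupCongr (((Rec.gen_normal h5).eq_bot_or_eq_top).resolve_left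
    fun e => X.tH ((mem_bot.1 (e ▸ Rec.Rk1.t_mem (Q := X.Q)) : X.t = 1) ▸ one_mem _))).trans topEquiv
  rcases hS.cases with ⟨hr, hQ | ⟨hc, w, hw, x, hx, hne⟩⟩ | ⟨hr, hc, -⟩
  · refine Or.inl ?_
    rintro _ ⟨x, hx, rfl⟩
    exact (map_mul _ x x).symm.trans (by rw [(X.mem_Z.1 (hQ ▸ hx)).2, map_one])
  · obtain ⟨w1, w2⟩ := X.mem_W.1 hw
    exact absurd (mem_centralizer_iff.mp (np_cent (h.nil X.s (Invo.orderOf_eq ⟨X.ss, X.s1⟩)) hS.two
      (fun y hy => mem_centralizer_singleton_iff.2 (X.Z_comm X.s_mem_Z hy).symm)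
      (mem_centralizer_singleton_iff.2 (w2 _ X.s_mem_Z))
      (H9.mem_normalizer_of_conj_mem fun y hy => X.conj_mem_Q (X.D_le w1) hy)
      (X.odd_orderOf w1).not_two_dvd_nat) x hx).symm hne
  · obtain ⟨-, -, F, _, _, m, h1, h2, -, ⟨f⟩⟩ := Rec.rec_Sz h5 hS.two hc fun a => by
      have h5 := hS.ab fun x hx y hy => congrArg Subtype.val (a.is_comm.comm (⟨x, hx⟩ : X.Q) ⟨y, hy⟩)
      rw [h5] at hc
      change X.q = _ at hc
      nlinarith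
    refine Or.inr ⟨⟨F, _, _, m, h1, h2, ⟨e.symm.trans f⟩⟩, fun ρ ho hρ => ?_⟩
    have := aut_eq_one X ((MulAut.conj g)⁻¹ * ρ * MulAut.conj g) (by rwa [order_cj']) fun x hx => by
      rw [MulAut.mul_apply, MulAut.mul_apply, MulAut.conj_apply, hρ _ (conj_mem_cj g hx)]; simp [mul_assoc]
    calc ρ = MulAut.conj g * ((MulAut.conj g)⁻¹ * ρ * MulAut.conj g) * (MulAut.conj g)⁻¹ := by group
      _ = 1 := by rw [this]; group

theorem Hy.main {p : ℕ} [Fact p.Prime] (h : Hy p P) (hs : Sol p G) (h0 : pPrimeCore p G = ⊥) (hn : ¬ P.Normal) :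
    p = 2 ∧ (((∀ x ∈ P, x * x = 1) ∧ ∀ x ∈ P, ∀ y ∈ P, x ≠ 1 → y ≠ 1 → ∃ g : G, g * x * g⁻¹ = y) ∨
      Lie.IsoSuzuki G) := by
  have := Fintype.ofFinite G
  set L := normalClosure (P : Set G)
  have hle : P ≤ L := le_normalClosure
  have h1 : L ≠ ⊥ := fun e => hn (by rw [eq_bot_iff.mpr (hle.trans e.le)]; infer_instance)
  obtain ⟨k1, k2, k3⟩ := h.sub h0 hn h1
  have := h.simple h0 hn
  obtain rfl := k1.two (fun x y hx hy => IsPSolvable.of_equiv (by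
    rw [MonoidHom.map_closure, Set.image_pair]
    exact hs _ _ (by rwa [← orderOf_coe] at hx) (by rwa [← orderOf_coe] at hy))
      (equivMapOfInjective _ L.subtype L.subtype_injective).symm) k2 k3
  obtain ⟨k4, k5⟩ := k1.two_simple k3
  have k6 : ∀ x ∈ L, ∀ y ∈ L, Invo x → Invo y → ∃ g ∈ L, g * x * g⁻¹ = y := fun x hx y hy ix iy => by
    obtain ⟨g, e⟩ := k4 ⟨x, hx⟩ ⟨y, hy⟩ ⟨Subtype.ext ix.1, fun e => ix.2 (congrArg Subtype.val e)⟩
      ⟨Subtype.ext iy.1, fun e => iy.2 (congrArg Subtype.val e)⟩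
    exact ⟨g, g.2, congrArg Subtype.val e⟩
  refine ⟨rfl, k5.imp (fun k5 => ?_) fun ⟨⟨F, _, _, m, c1, c2, ⟨f⟩⟩, k5⟩ => ⟨F, _, _, m, c1, c2,
    ⟨(topEquiv.symm.trans (MulEquiv.subgroupCongr (eq_top_iff.mpr fun g _ => ?_).symm)).trans f⟩⟩⟩
  · have k7 : ∀ x ∈ P, x * x = 1 := fun x hx => congrArg Subtype.val (k5 ⟨x, hle hx⟩ hx)
    exact ⟨k7, fun x hx y hy x1 y1 =>
      let ⟨g, _, e⟩ := k6 x (hle hx) y (hle hy) ⟨k7 x hx, x1⟩ ⟨k7 y hy, y1⟩; ⟨g, e⟩⟩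
  have hS := h.syl.of_le hle le_top
  obtain ⟨k, hk, e⟩ := hS.exists_cj_eq (hS.cj_of_mem_normalizer
    ((normalizer_eq_top_iff.mpr inferInstance).ge (mem_top g)))
  have hkg : k⁻¹ * g ∈ 𝐍(P) := cj_eq_self_iff.mp (by rw [cj_mul, ← e, cj_inv_cj])
  obtain ⟨z, hz, z1⟩ := exists_mem_ne_one (Zp_ne_bot h.syl.pgroup (fun e => hn (by rw [e]; infer_instance)))
  have iz : Invo z := ⟨by rw [← pow_two, hz.2], z1⟩
  have hz' := (Zp_conj hkg hz).1.1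
  obtain ⟨l, hl, e1⟩ := k6 z (hle hz.1.1) _ (hle hz') iz (iz.conj (k⁻¹ * g))
  obtain ⟨n, hn', e2⟩ := h.fus_sup (L := L) hz.1.1 (mem_sup_left hl) (e1 ▸ hz')
  rw [sup_eq_left.mpr hle, mem_inf] at hn'
  obtain ⟨a, ha, c, hc, e3⟩ := mem_sup_cent (h.mem_N0 hz.1 z1 (mul_mem (inv_mem hn'.1) hkg) (by
    calc _ = n⁻¹ * (k⁻¹ * g * z * (k⁻¹ * g)⁻¹) * (k⁻¹ * g) := by group
      _ = _ := by rw [← e1, ← e2]; group))
  obtain ⟨u, hu, w, hw, rfl, u2, w2⟩ := exists_parts 2 c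
  have hu' := h.mem_of_pw (centralizer_le_normalizer _ (zpowers_le.mpr hc hu)) u2
  have hw' := zpowers_le.mpr hc hw
  have e4 := k5 (MulAut.conjNormal w) (Nat.not_even_iff_odd.mp fun c => w2 (c.two_dvd.trans (orderOf_map_dvd _ _)))
    fun x hx => Subtype.ext (by simp [← mem_centralizer_iff.mp hw' x hx])
  have e5 : 𝐂(L) = ⊥ := by
    by_contra c
    have := h.le_of_normal h0 hn c
    exact k3 ⟨fun x hx g => by
      rwa [show g * x = x * g from Subtype.ext (mem_centralizer_iff.mp (this hx) g g.2), mul_inv_cancel_right]⟩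
  have e6 : w ∈ 𝐂(L) := fun x hx => by
    have := congrArg Subtype.val (DFunLike.congr_fun e4 ⟨x, hx⟩)
    exact (mul_inv_eq_iff_eq_mul.mp this).symm
  rw [e5, mem_bot] at e6
  rw [show g = k * (n * (n⁻¹ * (k⁻¹ * g))) by group, ← e3, e6, mul_one]
  exact mul_mem hk (mul_mem hn'.2 (hle (mul_mem ha hu')))

end Cfsg.Agent.GZ
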